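import Mathlib
import Cfsg.Agent.Lib.PLocal.QdRankTwo
import Cfsg.Agent.Lib.Transfer.RankTwo

/-! Half-transitive coprime linear actions of p-groups, p odd, are fixed-point-free. -/

set_option autoImplicit false

namespace Cfsg.Agent.HalfTrans

open MulAction

variable {P E : Type*} [Group P] [AddCommGroup E] [DistribMulAction P E] {p : ℕ}

/-- orbit sum over the powers of g -/
def osum (p : ℕ) (g : P) (e : E) : E := ∑ i ∈ Finset.range p, g ^ i • e

theorem smul_osum {g : P} (hg : g ^ p = 1) (e : E) : g • osum p g e = osum p g e := by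
  rcases Nat.eq_zero_or_pos p with rfl | hp
  · simp [osum]
  obtain ⟨m, rfl⟩ := Nat.exists_eq_succ_of_ne_zero hp.ne'
  unfold osum
  rw [Finset.smul_sum]
  simp only [smul_smul, ← pow_succ']
  rw [Finset.sum_range_succ, Finset.sum_range_succ' (fun i => g ^ i • e) m, hg]
  simp

theorem osum_of_fix {g : P} {e : E} (h : g • e = e) : osum p g e = p • e := by
  have hmem : g ∈ stabilizer P e := h
  have : ∀ i : ℕ, g ^ i • e = e := fun i => pow_mem hmem i
  unfold osum
  rw [Finset.sum_congr rfl fun i _ => this i, Finset.sum_const, Finset.card_range]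

theorem smul_osum_comm {g h : P} (hc : Commute h g) (e : E) : h • osum p g e = osum p g (h • e) := by
  unfold osum
  rw [Finset.smul_sum]
  exact Finset.sum_congr rfl fun i _ => by rw [smul_smul, smul_smul, (hc.pow_right i).eq]

theorem osum_add (g : P) (e e' : E) : osum p g (e + e') = osum p g e + osum p g e' := by
  unfold osum
  rw [← Finset.sum_add_distrib]
  exact Finset.sum_congr rfl fun i _ => smul_add _ _ _

/-- in a noncyclic group of exponent p some element fixes a point -/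
theorem exists_fix_of_pair [Fact p.Prime] {A : Subgroup P} {x y : P} (hxA : x ∈ A) (hyA : y ∈ A)
    (hA : ∀ a ∈ A, a ^ p = 1) (hc : Commute x y) (hy1 : y ≠ 1) (hxy : x ∉ Subgroup.zpowers y)
    (hreg : ∀ e : E, p • e = 0 → e = 0) {e : E} (he : e ≠ 0) :
    ∃ g ∈ A, g ≠ 1 ∧ ∃ e' : E, e' ≠ 0 ∧ g • e' = e' := by
  have hp := (Fact.out : p.Prime)
  by_contra hcon
  push Not at hcon
  have hzero : ∀ g ∈ A, g ≠ 1 → osum p g e = 0 := by
    intro g hg hg1
    by_contra h0
    exact hcon g hg hg1 _ h0 (smul_osum (hA g hg) e)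
  refine he (hreg e ?_)
  have h1 : ∑ j ∈ Finset.range p, osum p (x * y ^ j) e = 0 := Finset.sum_eq_zero fun j _ =>
    hzero _ (mul_mem hxA (pow_mem hyA j)) fun h => hxy (by
      rw [eq_inv_of_mul_eq_one_left h]; exact inv_mem (pow_mem (Subgroup.mem_zpowers y) j))
  have h2 : ∑ j ∈ Finset.range p, osum p (x * y ^ j) e = ∑ i ∈ Finset.range p, x ^ i • osum p (y ^ i) e := by
    unfold osum
    simp only [Finset.smul_sum, smul_smul]
    rw [Finset.sum_comm]
    exact Finset.sum_congr rfl fun i _ => Finset.sum_congr rfl fun j _ => by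
      rw [(hc.pow_right j).mul_pow, ← pow_mul, ← pow_mul, mul_comm j i]
  rw [h2, Finset.sum_eq_single 0] at h1
  · rw [pow_zero, one_smul, pow_zero] at h1
    rwa [osum_of_fix (one_smul _ _)] at h1
  · intro i hi hi0
    rw [hzero _ (pow_mem hyA i), smul_zero]
    intro h
    have ho : orderOf y = p := orderOf_eq_prime (hA y hyA) hy1
    have hd := orderOf_dvd_of_pow_eq_one h
    rw [ho] at hd
    exact absurd (Nat.le_of_dvd (Nat.pos_of_ne_zero hi0) hd) (not_le.2 (Finset.mem_range.1 hi))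
  · intro h; exact absurd (Finset.mem_range.2 hp.pos) h

/-! ### constant stabiliser orders -/

variable [Finite P] [FaithfulSMul P E]
  (hconst : ∀ a b : E, a ≠ 0 → b ≠ 0 → Nat.card (stabilizer P a) = Nat.card (stabilizer P b))

include hconst in
omit [FaithfulSMul P E] in
theorem stab_eq_of_le {a b : E} (ha : a ≠ 0) (hb : b ≠ 0) (h : stabilizer P a ≤ stabilizer P b) :
    stabilizer P a = stabilizer P b :=
  Subgroup.eq_of_le_of_card_ge h (hconst a b ha hb).ge

include hconst in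
/-- a nontrivial normal subgroup has no fixed points -/
theorem fixed_eq_zero (hreg : ∀ (m : ℕ) (e : E), m ∣ Nat.card P → m • e = 0 → e = 0) (N : Subgroup P)
    [N.Normal] (hN : N ≠ ⊥) {u : E} (hu : ∀ n ∈ N, n • u = u) : u = 0 := by
  classical
  have := Fintype.ofFinite N
  by_contra hu0
  let S : E →+ E := ∑ n : N, DistribSMul.toAddMonoidHom E (n : P)
  have hSa : ∀ e, S e = ∑ n : N, (n : P) • e := fun e => by simp [S]
  have hd : Fintype.card N ∣ Nat.card P := by rw [← Nat.card_eq_fintype_card]; exact N.card_subgroup_dvd_card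
  have hfix : ∀ e : E, (∀ n ∈ N, n • e = e) → S e = Fintype.card N • e := fun e he => by
    rw [hSa, Finset.sum_congr rfl fun (n : N) _ => he (n : P) n.2, Finset.sum_const, Finset.card_univ]
  obtain ⟨w, hw0, hSw⟩ : ∃ w : E, w ≠ 0 ∧ S w = 0 := by
    obtain ⟨⟨n, hn⟩, hn'⟩ := Subgroup.ne_bot_iff_exists_ne_one.1 hN
    have hn1 : n ≠ 1 := fun h => hn' (Subtype.ext h)
    obtain ⟨e, he⟩ : ∃ e : E, n • e ≠ e := by
      by_contra h
      push Not at h
      exact hn1 (FaithfulSMul.eq_of_smul_eq_smul (α := E) fun e => by rw [h e, one_smul])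
    refine ⟨n • e - e, sub_ne_zero.2 he, ?_⟩
    rw [map_sub, sub_eq_zero, hSa, hSa]
    exact Fintype.sum_equiv (Equiv.mulRight (⟨n, hn⟩ : N)) _ _ fun m => by simp [smul_smul]
  have hconj : ∀ (g : P) (e : E), S (g • e) = g • S e := by
    intro g e
    rw [hSa, hSa, Finset.smul_sum]
    refine Fintype.sum_equiv
      ⟨fun m => ⟨g⁻¹ * m * g, by simpa using ‹N.Normal›.conj_mem (m : P) m.2 g⁻¹⟩,
       fun m => ⟨g * m * g⁻¹, ‹N.Normal›.conj_mem (m : P) m.2 g⟩,
       fun m => Subtype.ext (show g * (g⁻¹ * (m : P) * g) * g⁻¹ = m by group),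
       fun m => Subtype.ext (show g⁻¹ * (g * (m : P) * g⁻¹) * g = m by group)⟩ _ _ fun m => ?_
    simp [smul_smul, mul_assoc]
  have hS : S (u + w) = Fintype.card N • u := by rw [map_add, hfix u hu, hSw, add_zero]
  have huw : u + w ≠ 0 := fun h => hu0 (hreg _ u hd (by rw [← hS, h, map_zero]))
  have hle : stabilizer P (u + w) ≤ stabilizer P u ∧ stabilizer P (u + w) ≤ stabilizer P w := by
    have : ∀ g ∈ stabilizer P (u + w), g • u = u ∧ g • w = w := by
      intro g hg
      have hg' : g • (u + w) = u + w := hg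
      have h1 : g • u = u := by
        rw [← sub_eq_zero]
        apply hreg _ _ hd
        rw [smul_sub, sub_eq_zero, ← hS]
        conv_rhs => rw [← hg', hconj, hS, smul_comm]
      exact ⟨h1, by rw [smul_add, h1] at hg'; exact add_left_cancel hg'⟩
    exact ⟨fun g hg => (this g hg).1, fun g hg => (this g hg).2⟩
  have hNw : ∀ n ∈ N, n • w = w := fun n hn => by
    have hn' : n ∈ stabilizer P u := hu n hn
    rw [← stab_eq_of_le hconst huw hu0 hle.1, stab_eq_of_le hconst huw hw0 hle.2] at hn'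
    exact hn'
  exact hw0 (hreg _ w hd (by rw [← hfix w hNw, hSw]))

omit [AddCommGroup E] [DistribMulAction P E] [FaithfulSMul P E] in
theorem exists_normal_rank_two [hp : Fact p.Prime] (hp2 : p ≠ 2) (hP : IsPGroup p P) (hnc : ¬ IsCyclic P) :
    ∃ A : Subgroup P, A.Normal ∧ IsMulCommutative A ∧ (∀ a ∈ A, a ^ p = 1) ∧ Nat.card A = p ^ 2 := by
  classical
  set S := {A : Subgroup P | A.Normal ∧ IsMulCommutative A ∧ ∀ a ∈ A, a ^ p = 1}
  have hne : S.Nonempty := ⟨⊥, inferInstance, ⟨⟨fun u v => Subsingleton.elim _ _⟩⟩,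
    fun a ha => by rw [Subgroup.mem_bot.1 ha, one_pow]⟩
  obtain ⟨A, ⟨hAn, hAc, hAe⟩, hAmax⟩ := S.toFinite.exists_maximal hne
  haveI := hAn
  have hmem := fun (x : P) (hx : x ∈ Subgroup.centralizer (A : Set P)) (hxp : x ^ p = 1) =>
    Cfsg.Lib.Transfer.mem_of_maximal_normal_abelian_exponent hP 1 (by rw [pow_one]; exact hp2) A hAc
    (fun a ha => by rw [pow_one]; exact hAe a ha)
    (fun B hB hBc hBe hle => le_antisymm (hAmax ⟨hB, hBc, fun b hb => by simpa using hBe b hb⟩ hle) hle) x hx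
    (by rw [pow_one]; exact hxp)
  obtain ⟨k, hk⟩ := IsPGroup.iff_card.1 (hP.to_subgroup A)
  by_cases h2 : 2 ≤ k
  · obtain ⟨B, hBA, hBn, hBc⟩ := Cfsg.Lib.Transfer.RankTwo.exists_normal_le_card hP A hk 2 h2
    exact ⟨B, hBn, ⟨⟨fun u v => Subtype.ext
      (Subgroup.mul_comm_of_mem_isMulCommutative A (hBA u.2) (hBA v.2))⟩⟩, fun b hb => hAe b (hBA hb), hBc⟩
  exfalso
  have hcen : A ≤ Subgroup.center P := by
    rcases eq_or_ne A ⊥ with h | h
    · rw [h]; exact bot_le
    have h1 := Cfsg.Lib.Transfer.inf_center_ne_bot hP A h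
    have hdv := Subgroup.card_dvd_of_le (inf_le_left : A ⊓ Subgroup.center P ≤ A)
    rw [hk] at hdv
    have hle : Nat.card A ≤ p ^ 1 := by rw [hk]; exact Nat.pow_le_pow_right hp.out.pos (by omega)
    have hgt : 1 < Nat.card ↥(A ⊓ Subgroup.center P) := (Subgroup.one_lt_card_iff_ne_bot _).2 h1
    have heq : A ⊓ Subgroup.center P = A := by
      refine Subgroup.eq_of_le_of_card_ge inf_le_left ?_
      obtain ⟨j, hj, hj'⟩ := (Nat.dvd_prime_pow hp.out).1 hdv
      rw [hj'] at hgt ⊢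
      rw [hk]
      refine Nat.pow_le_pow_right hp.out.pos ?_
      rcases Nat.eq_zero_or_pos j with rfl | hjp
      · simp at hgt
      · omega
    exact inf_eq_left.1 heq
  apply hnc
  refine Cfsg.Lib.PLocal.isCyclic_of_omega hp2 _ P rfl hP fun x y hx hy hx1 => ?_
  have hin : ∀ z : P, z ^ p = 1 → z ∈ A := fun z hz => hmem z (Subgroup.mem_centralizer_iff.2 fun a ha =>
    (Subgroup.mem_center_iff.1 (hcen ha) z).symm) hz
  have hxA := hin x hx
  have hcx : Nat.card (Subgroup.zpowers x) = p := by rw [Nat.card_zpowers, orderOf_eq_prime hx hx1]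
  have heq : Subgroup.zpowers x = A := Subgroup.eq_of_le_of_card_ge (Subgroup.zpowers_le.2 hxA) (by
    rw [hk, hcx]
    calc p ^ k ≤ p ^ 1 := Nat.pow_le_pow_right hp.out.pos (by omega)
      _ = p := pow_one p)
  rw [heq]; exact hin y hy

include hconst in
theorem isCyclic_of_halfTransitive [hp : Fact p.Prime] [Nontrivial E] (hp2 : p ≠ 2) (hP : IsPGroup p P)
    (hreg : ∀ (m : ℕ) (e : E), m ∣ Nat.card P → m • e = 0 → e = 0) (hregp : ∀ e : E, p • e = 0 → e = 0) :
    IsCyclic P := by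
  by_contra hnc
  obtain ⟨A, hAn, hAc, hAe, hA2⟩ := exists_normal_rank_two hp2 hP hnc
  have hcard : ∀ {x : P}, x ∈ A → x ≠ 1 → Nat.card (Subgroup.zpowers x) = p := fun hx h => by
    rw [Nat.card_zpowers, orderOf_eq_prime (hAe _ hx) h]
  have hAne : A ≠ ⊥ := fun h => by
    rw [h, Subgroup.card_bot] at hA2
    exact absurd hA2.symm (Nat.one_lt_pow two_ne_zero hp.out.one_lt).ne'
  have hgen : ∀ {x y : P}, x ∈ A → y ∈ A → y ≠ 1 → x ∉ Subgroup.zpowers y →
      ∀ {e : E}, x • e = e → y • e = e → e = 0 := by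
    intro x y hx hy hy1 hxy e hxe hye
    refine fixed_eq_zero hconst hreg A hAne fun n hn => ?_
    set W := Subgroup.zpowers y ⊔ Subgroup.zpowers x
    have hW : W ≤ A := sup_le (Subgroup.zpowers_le.2 hy) (Subgroup.zpowers_le.2 hx)
    have hWA : W = A := by
      refine Subgroup.eq_of_le_of_card_ge hW ?_
      obtain ⟨j, hj, hj'⟩ := (Nat.dvd_prime_pow hp.out).1 (hA2 ▸ Subgroup.card_dvd_of_le hW)
      rw [hA2, hj']
      refine Nat.pow_le_pow_right hp.out.pos ?_
      by_contra hj2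
      have : Subgroup.zpowers y = W := Subgroup.eq_of_le_of_card_ge le_sup_left (by
        rw [hj', hcard hy hy1]
        calc p ^ j ≤ p ^ 1 := Nat.pow_le_pow_right hp.out.pos (by omega)
          _ = p := pow_one p)
      exact hxy (this ▸ Subgroup.mem_sup_right (Subgroup.mem_zpowers x))
    have : W ≤ stabilizer P e := sup_le (Subgroup.zpowers_le.2 hye) (Subgroup.zpowers_le.2 hxe)
    exact this (hWA.symm ▸ hn)
  -- an element of A with a fixed point
  obtain ⟨y, hy, hy1⟩ := (Subgroup.ne_bot_iff_exists_ne_one.1 hAne).elim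
    fun n hn => (⟨(n : P), n.2, fun h => hn (Subtype.ext h)⟩ : ∃ y ∈ A, y ≠ 1)
  obtain ⟨x, hx, hxy⟩ : ∃ x ∈ A, x ∉ Subgroup.zpowers y := by
    by_contra h
    push Not at h
    have := Subgroup.card_dvd_of_le (show A ≤ Subgroup.zpowers y from h)
    rw [hA2, hcard hy hy1] at this
    have := Nat.le_of_dvd hp.out.pos this
    have := hp.out.two_le
    nlinarith
  have hcomm : ∀ {x y : P}, x ∈ A → y ∈ A → Commute x y := fun ha hb =>
    @Subgroup.mul_comm_of_mem_isMulCommutative _ _ A hAc _ _ ha hb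
  obtain ⟨e0, he0⟩ := exists_ne (0 : E)
  obtain ⟨g, hg, hg1, e₁, he₁, hge₁⟩ := exists_fix_of_pair hx hy hAe (hcomm hx hy) hy1 hxy hregp he0
  obtain ⟨h, hh⟩ : ∃ h : P, h * g * h⁻¹ ∉ Subgroup.zpowers g := by
    by_contra hh
    push Not at hh
    have : (Subgroup.zpowers g).Normal := ⟨fun n hn γ => by
      obtain ⟨i, rfl⟩ := Subgroup.mem_zpowers_iff.1 hn
      rw [← conj_zpow]; exact zpow_mem (hh γ) i⟩
    exact he₁ (fixed_eq_zero hconst hreg (Subgroup.zpowers g) (by simpa using hg1) fun n hn =>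
      Subgroup.zpowers_le.2 (show g ∈ stabilizer P e₁ from hge₁) hn)
  set g' := h * g * h⁻¹ with hg'
  have hg'A : g' ∈ A := hAn.conj_mem g hg h
  have hg'1 : g' ≠ 1 := fun e => hg1 (conj_eq_one_iff.1 e)
  have hg'g : g ∉ Subgroup.zpowers g' := fun hin => hh (by
    have : Subgroup.zpowers g = Subgroup.zpowers g' :=
      Subgroup.eq_of_le_of_card_ge (Subgroup.zpowers_le.2 hin) (by rw [hcard hg hg1, hcard hg'A hg'1])
    rw [this]; exact Subgroup.mem_zpowers g')
  set e₂ := h • e₁ with he₂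
  have he₂0 : e₂ ≠ 0 := fun e => he₁ ((smul_eq_zero_iff_eq h).1 e)
  have hg'e₂ : g' • e₂ = e₂ := by
    rw [hg', he₂, smul_smul, inv_mul_cancel_right, mul_smul, hge₁]
  -- the projection onto the fixed points of an element of A
  have proj0 : ∀ {z k : P}, z ∈ A → k ∈ A → z ≠ 1 → k ∉ Subgroup.zpowers z → ∀ {e : E}, k • e = e →
      osum p z e = 0 := by
    intro z k hz hk hz1 hkz e he
    refine hgen hk hz hz1 hkz ?_ (smul_osum (hAe z hz) e)
    rw [smul_osum_comm (hcomm hk hz), he]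
  have proj1 : ∀ {z k : P}, z ∈ A → k ∈ A → k ≠ 1 → k ∈ Subgroup.zpowers z → ∀ {e : E}, k • e = e →
      osum p z e = p • e := by
    intro z k hz hk hk1 hkz e he
    refine osum_of_fix ?_
    have hz1 : z ≠ 1 := fun hh' => hk1 (by rw [hh', Subgroup.zpowers_one_eq_bot] at hkz; exact hkz)
    have heq : Subgroup.zpowers k = Subgroup.zpowers z :=
      Subgroup.eq_of_le_of_card_ge (Subgroup.zpowers_le.2 hkz) (by rw [hcard hz hz1, hcard hk hk1])
    exact Subgroup.zpowers_le.2 (show k ∈ stabilizer P e from he) (heq ▸ Subgroup.mem_zpowers z)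
  have hS1 : osum p g (e₁ + e₂) = p • e₁ := by
    rw [osum_add, osum_of_fix hge₁, proj0 hg hg'A hg1 hh hg'e₂, add_zero]
  have hS2 : osum p g' (e₁ + e₂) = p • e₂ := by
    rw [osum_add, proj0 hg'A hg hg'1 hg'g hge₁, osum_of_fix hg'e₂, zero_add]
  have he12 : e₁ + e₂ ≠ 0 := fun e => he₁ (hregp _ (by rw [← hS1, e]; simp [osum]))
  have hle : ∀ γ ∈ stabilizer P (e₁ + e₂), γ • e₁ = e₁ ∧ γ • e₂ = e₂ := by
    intro γ hγ
    have hγe : γ • (e₁ + e₂) = e₁ + e₂ := hγ
    have hk : γ * g * γ⁻¹ ∈ A := hAn.conj_mem g hg γ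
    have hk' : γ * g' * γ⁻¹ ∈ A := hAn.conj_mem g' hg'A γ
    have hk1 : γ * g * γ⁻¹ ≠ 1 := fun e => hg1 (conj_eq_one_iff.1 e)
    have hk'1 : γ * g' * γ⁻¹ ≠ 1 := fun e => hg'1 (conj_eq_one_iff.1 e)
    have hke : (γ * g * γ⁻¹) • (γ • e₁) = γ • e₁ := by rw [smul_smul, inv_mul_cancel_right, mul_smul, hge₁]
    have hk'e : (γ * g' * γ⁻¹) • (γ • e₂) = γ • e₂ := by rw [smul_smul, inv_mul_cancel_right, mul_smul, hg'e₂]
    have huniq : ∀ {k : P}, k ∈ A → k ≠ 1 → k ∈ Subgroup.zpowers g → k ∈ Subgroup.zpowers g' → False := by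
      intro k hkA hk1 h1 h2
      have e1 : Subgroup.zpowers k = Subgroup.zpowers g :=
        Subgroup.eq_of_le_of_card_ge (Subgroup.zpowers_le.2 h1) (by rw [hcard hg hg1, hcard hkA hk1])
      exact hg'g (Subgroup.zpowers_le.2 h2 (e1 ▸ Subgroup.mem_zpowers g))
    have hnorm : γ * g * γ⁻¹ ∈ Subgroup.zpowers g := by
      by_contra h1
      have h2 : γ * g' * γ⁻¹ ∈ Subgroup.zpowers g := by
        by_contra h2
        refine he₁ (hregp _ ?_)
        rw [← hS1, ← hγe, smul_add, osum_add, proj0 hg hk hg1 h1 hke, proj0 hg hk' hg1 h2 hk'e, add_zero]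
      have h3 : γ * g * γ⁻¹ ∈ Subgroup.zpowers g' := by
        by_contra h3
        refine he₂0 (hregp _ ?_)
        rw [← hS2, ← hγe, smul_add, osum_add, proj0 hg'A hk hg'1 h3 hke,
          proj0 hg'A hk' hg'1 (fun h4 => huniq hk' hk'1 h2 h4) hk'e, add_zero]
      -- γ swaps the two subgroups; its square fixes the first
      have hsq : γ ^ 2 * g * (γ ^ 2)⁻¹ ∈ Subgroup.zpowers g := by
        obtain ⟨i, hi⟩ := Subgroup.mem_zpowers_iff.1 h3
        rw [show γ ^ 2 * g * (γ ^ 2)⁻¹ = γ * (γ * g * γ⁻¹) * γ⁻¹ by rw [pow_two]; group, ← hi, ← conj_zpow]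
        exact zpow_mem h2 i
      have hstep : ∀ n : ℕ, (γ ^ 2) ^ n * g * ((γ ^ 2) ^ n)⁻¹ ∈ Subgroup.zpowers g := by
        intro n
        induction n with
        | zero => simp
        | succ n ih =>
          obtain ⟨i, hi⟩ := Subgroup.mem_zpowers_iff.1 hsq
          rw [show (γ ^ 2) ^ (n + 1) * g * ((γ ^ 2) ^ (n + 1))⁻¹ =
            (γ ^ 2) ^ n * (γ ^ 2 * g * (γ ^ 2)⁻¹) * ((γ ^ 2) ^ n)⁻¹ by rw [pow_succ]; group, ← hi, ← conj_zpow]
          exact zpow_mem ih i
      apply h1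
      obtain ⟨j, hj⟩ := hP.exists_orderOf_eq_pow γ
      obtain ⟨c, hc⟩ : Odd (orderOf γ) := by rw [hj]; exact (hp.out.odd_of_ne_two hp2).pow
      have hgam : γ = (γ ^ 2) ^ (c + 1) := by
        rw [← pow_mul, show 2 * (c + 1) = orderOf γ + 1 by omega, pow_succ, pow_orderOf_eq_one, one_mul]
      rw [hgam]; exact hstep _
    have hk'g : γ * g' * γ⁻¹ ∉ Subgroup.zpowers g := by
      intro h2
      apply hh
      have e1 : Subgroup.zpowers (γ * g * γ⁻¹) = Subgroup.zpowers g :=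
        Subgroup.eq_of_le_of_card_ge (Subgroup.zpowers_le.2 hnorm) (by rw [hcard hg hg1, hcard hk hk1])
      rw [← e1] at h2
      obtain ⟨i, hi⟩ := Subgroup.mem_zpowers_iff.1 h2
      rw [conj_zpow] at hi
      exact Subgroup.mem_zpowers_iff.2 ⟨i, mul_left_cancel (mul_right_cancel hi)⟩
    have h1 : γ • e₁ = e₁ := by
      rw [← sub_eq_zero]
      apply hregp
      rw [smul_sub, sub_eq_zero]
      conv_rhs => rw [← hS1, ← hγe, smul_add, osum_add, proj1 hg hk hk1 hnorm hke, proj0 hg hk' hg1 hk'g hk'e, add_zero]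
    exact ⟨h1, by rw [smul_add, h1] at hγe; exact add_left_cancel hγe⟩
  have heq : stabilizer P e₁ = stabilizer P e₂ := by
    rw [← stab_eq_of_le hconst he12 he₁ fun γ h => (hle γ h).1, stab_eq_of_le hconst he12 he₂0 fun γ h => (hle γ h).2]
  refine he₁ (hgen hg'A hg hg1 hh ?_ hge₁)
  have : g' ∈ stabilizer P e₁ := by rw [heq]; exact hg'e₂
  exact this

end Cfsg.Agent.HalfTrans
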